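import Groth.Agent.Lib.AmpleFib.GenProd
import Groth.Agent.S3572

/-!
# The morphism of a given finite family of sections, without added coordinates
-/

set_option autoImplicit false
set_option linter.style.haveILetI false
set_option backward.isDefEq.respectTransparency false

universe u

open CategoryTheory CategoryTheory.Limits AlgebraicGeometry TopologicalSpace Opposite

namespace Groth.Agent.CurveVA17

open Groth.Agent Groth.Agent.VA11
open Groth.Agent.M1 (ores mres)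

variable {X : Scheme.{u}} {L : X.Modules}

/-- Separation passes to a finite family spanning all sections. -/
theorem vaat_of_span {R : Type u} [CommRing R] {ρ : R →+* Γ(X, (⊤ : X.Opens))} {n : ℕ}
    (σ : Fin n → Γ(L, (⊤ : X.Opens))) (hspan : ∀ t, ∃ c : Fin n → R, t = ∑ j, ρ (c j) • σ j)
    {x : X} (h : VAat ρ (id : Γ(L, (⊤ : X.Opens)) → Γ(L, (⊤ : X.Opens))) x) :
    VAat ρ (fun i : ULift.{u} (Fin n) => σ i.down) x := by
  classical
  obtain ⟨i, hi⟩ : ∃ i, x ∈ gl (σ i) := by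
    obtain ⟨e, b, hb, hxb, -⟩ := id h
    have hxe : x ∈ gl e := X.basicOpen_le b hxb
    obtain ⟨c, rfl⟩ := hspan e
    by_contra hno
    push Not at hno
    have hz : ∀ s : Finset (Fin n), x ∉ gl (∑ j ∈ s, ρ (c j) • σ j) := fun s => by
      induction s using Finset.induction_on with
      | empty => rw [Finset.sum_empty]; exact AmpleFib.not_mem_gl_zero
      | insert a s ha ih =>
        rw [Finset.sum_insert ha]
        intro hx
        rcases AmpleFib.gl_add_le _ _ hx with hx | hx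
        · refine hno a ?_
          let c' : Γ(X, gl (ρ (c a) • σ a)) := ores (gl_le _) (ρ (c a))
          have h1 := cf_smul (ρ (c a) • σ a) (σ a)
          have h2 : ores (gl_le _) (ρ (c a)) * cf (ρ (c a) • σ a) (σ a) = 1 := by
            refine smul_inj le_rfl ?_
            rw [mul_smul, h1, one_smul, ← M1.mres_smul]
          obtain ⟨hle, hg⟩ : ∃ hle : gl (ρ (c a) • σ a) ≤ ⊤, Twist.IsGen L (gl (ρ (c a) • σ a)) (mres L hle (σ a)) :=
            ⟨le_top, by
              have := isGen_smul_unit (isGen_gl (ρ (c a) • σ a)) (c := cf (ρ (c a) • σ a) (σ a))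
                (IsUnit.of_mul_eq_one_right _ h2)
              rwa [h1] at this⟩
          exact le_gl hle hg hx
        · exact ih hx
    exact hz _ hxe
  refine AmpleFib.vaat_of_cf (σ := fun i : ULift.{u} (Fin n) => σ i.down) h ⟨i⟩ hi (σ i) rfl fun t => ?_
  rw [M1.ores_id]
  obtain ⟨c, rfl⟩ := hspan t
  have he : cf (σ i) (∑ j, ρ (c j) • σ j) = ∑ j, ores (gl_le _) (ρ (c j)) * cf (σ i) (σ j) := by
    refine smul_inj le_rfl ?_
    rw [cf_smul, Finset.sum_smul, map_sum]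
    refine Finset.sum_congr rfl fun j _ => ?_
    rw [mul_smul, cf_smul, M1.mres_smul]
  show cf (σ i) _ ∈ _
  rw [id_eq, he]
  exact sum_mem fun j _ => mul_mem (base_mem_ratSub (σ := fun i : ULift.{u} (Fin n) => σ i.down) (e := ⟨i⟩) _)
    (cf_mem_ratSub (σ := fun i : ULift.{u} (Fin n) => σ i.down) (e := ⟨i⟩) ⟨j⟩)

variable {k : Type u} [Field k]

/-- The closed immersion of a separating finite family, with exactly these coordinates. -/
theorem exists_closedImmersion_exact (q : X ⟶ Spec (CommRingCat.of k)) [IsProper q] (hL : PicF.IsInvertible L)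
    {n : ℕ} (σ : Fin (n + 1) → Γ(L, (⊤ : X.Opens))) (hva : ∀ x, VAat (ProjUP.toGlobal q) (fun i : ULift.{u} (Fin (n + 1)) => σ i.down) x) :
    ∃ i : X ⟶ CohB1.ProjSpace n k, IsClosedImmersion i ∧ i ≫ CohB1.ProjSpace.toSpec n k = q ∧
      Nonempty ((Scheme.Modules.pullback i).obj (_root_.Twist.twistProjSpace n k 1) ≅ L) := by
  classical
  have hw : ∀ (e : Fin (n + 1)) y, (Amp.Gen (Amp.gm L y (U := ⊤) trivial (σ e)) ↔ y ∈ gl (σ e)) :=
    fun e y => (mem_gl_iff hL (W := ⊤) (s := σ e) trivial).symm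
  have hgenBy : ProjUP.GeneratedBy L σ := fun y => by
    obtain ⟨⟨e⟩, b, hb, hxb, -⟩ := hva y
    have hg := (hw e y).2 (X.basicOpen_le b hxb)
    refine top_le_iff.1 fun a _ => ?_
    obtain ⟨c, rfl⟩ := hg.2 a
    exact Submodule.smul_mem _ c (Submodule.subset_span ⟨e, rfl⟩)
  obtain ⟨r, hr, τ, hτ⟩ := Groth.Agent.S3572.result n q L hL σ hgenBy
  let 𝒜 := CohB1.polyGrading n k
  have hX : ∀ i : Fin (n + 1), (MvPolynomial.X i : MvPolynomial (Fin (n + 1)) k) ∈ 𝒜 1 := fun i =>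
    MvPolynomial.isHomogeneous_X k i
  let D : Fin (n + 1) → (CohB1.ProjSpace n k).Opens := fun i => Proj.basicOpen 𝒜 (MvPolynomial.X i)
  have hpre : ∀ x, r ⁻¹ᵁ D x = gl (σ x) := fun x => by
    ext y
    rw [SetLike.mem_coe, SetLike.mem_coe, ← hw x y]
    have hval : σ x = τ.hom.app ⊤ (ProjUP.sec 𝒜 r (hX x)) := (hτ _).symm
    rw [hval, Amp.gen_map_iso τ (U := ⊤) trivial]
    constructor
    · intro hy
      have h1 := (ProjUP.isGen_sec 𝒜 r (hX x)).stalk hy
      rw [M1.germ_mres] at h1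
      exact h1
    · intro hy
      obtain ⟨l, hl⟩ := Opens.mem_iSup.1 ((ProjSpace.iSup_basicOpen n k).ge (Opens.mem_top (r y)))
      have hl' : y ∈ r ⁻¹ᵁ Proj.basicOpen 𝒜 (MvPolynomial.X l) := hl
      have h1 := congrArg (Amp.gm _ y hl')
        (ProjUP.sec_eq_ev_smul 𝒜 r (hX l) (hX x) _ le_rfl)
      rw [Amp.gm_smul] at h1
      replace h1 := (M1.germ_mres _ _ hl' _).symm.trans h1
      have hy1 := (congrArg Amp.Gen h1).mp hy
      have hy2 := ((ProjUP.isGen_sec 𝒜 r (hX l)).stalk hl' |> fun hg => Amp.Gen.ne_zero_smul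
        (g := Amp.gm _ y hl' _) hg _).1 hy1
      rw [← Scheme.mem_basicOpen, ProjUP.basicOpen_ev 𝒜 (hX l) r _ le_rfl (hX x)] at hy2
      exact hy2.2
  have hrat : ∀ e : ULift.{u} (Fin (n + 1)), ratSub (ProjUP.toGlobal q) (fun i : ULift.{u} (Fin (n + 1)) => σ i.down) e ≤
      (r.appLE (D e.down) (gl (σ e.down)) (hpre e.down).ge).hom.range := fun ⟨e⟩ => by
    let ψ := ProjUP.ev 𝒜 (hX e) r (gl (σ e)) (hpre e).ge
    have hrange : ∀ (z : Γ(X, gl (σ e))) (b : MvPolynomial (Fin (n + 1)) k), ψ b = z →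
        z ∈ (r.appLE (D e) (gl (σ e)) (hpre e).ge).hom.range := fun z b h =>
      ⟨Proj.awayToSection 𝒜 (MvPolynomial.X e) (EGA2.dehom 𝒜 (hX e) b), h⟩
    rw [ratSub, Subring.closure_le]
    rintro _ (⟨c, rfl⟩ | ⟨⟨l⟩, rfl⟩)
    · refine hrange _ (algebraMap k _ c) ?_
      rw [ProjUP.ev_algebraMap, show r ≫ ProjUP.toBase 𝒜 = q from hr]
      rfl
    · refine hrange _ (MvPolynomial.X l) (smul_inj le_rfl ?_)
      rw [cf_smul]
      have el : ∀ l, τ.hom.app (gl (σ e)) (M1.mres _ (le_top : gl (σ e) ≤ ⊤) (ProjUP.sec 𝒜 r (hX l))) =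
          M1.mres L (le_top : gl (σ e) ≤ ⊤) (σ l) := fun l =>
        (M1.app_mres τ.hom le_top _).trans (congrArg _ (hτ l))
      exact Eq.symm ((el l).symm.trans ((congrArg (fun z => τ.hom.app (gl (σ e)) z)
        (ProjUP.sec_eq_ev_smul 𝒜 r (hX e) (hX l) _ (hpre e).ge)).trans
          ((Scheme.Modules.Hom.app_smul τ.hom _ _).trans (congrArg (ψ (MvPolynomial.X l) • ·) (el e)))))
  choose e b hb hxb hA hfr using hva
  choose b' hb' using fun x => hrat (e x) (hb x)
  let W : X → (CohB1.ProjSpace n k).Opens := fun x => (CohB1.ProjSpace n k).basicOpen (b' x)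
  have hW : ∀ x, r ⁻¹ᵁ W x = X.basicOpen (b x) := fun x => by
    rw [← hb' x]
    show r ⁻¹ᵁ (CohB1.ProjSpace n k).basicOpen (b' x) =
      X.basicOpen (X.presheaf.map (homOfLE (hpre (e x).down).ge).op (r.app (D (e x).down) (b' x)))
    rw [Scheme.preimage_basicOpen, Scheme.basicOpen_res, eq_comm, inf_eq_right]
    exact (X.basicOpen_le _).trans (hpre (e x).down).le
  have himm : IsImmersion r := by
    refine AmpleImm18.isImmersion_of_charts r W
      (fun x => (Proj.isAffineOpen_basicOpen 𝒜 _ (hX _) one_pos).basicOpen _) (fun x => X.basicOpen (b x))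
      (fun x => hA x) (top_le_iff.1 fun x _ => Opens.mem_iSup.2 ⟨x, hxb x⟩) hW fun x => ?_
    rw [eq_top_iff]
    intro c _
    obtain ⟨m, a, ha, hk⟩ : c ∈ fracs (ores (X.basicOpen_le (b x))).hom (ratSub (ProjUP.toGlobal q) (fun i : ULift.{u} (Fin (n + 1)) => σ i.down) (e x)) (b x) (hb x) :=
      (hfr x) ▸ Subring.mem_top c
    obtain ⟨a', ha'⟩ := hrat (e x) ha
    let P := CohB1.ProjSpace n k
    let ψ := r.appLE (W x) (X.basicOpen (b x)) (hW x).ge
    let ρ' := (ores (P.basicOpen_le (b' x))).hom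
    have hu : IsUnit (ρ' (b' x)) := P.toRingedSpace.isUnit_res_basicOpen (b' x)
    have hnat : ∀ z, ψ (ρ' z) = ores (X.basicOpen_le (b x)) (r.appLE (D (e x).down) (gl (σ (e x).down)) (hpre (e x).down).ge z) := fun z => by
      show ψ (P.presheaf.map (homOfLE (P.basicOpen_le (b' x))).op z) =
        X.presheaf.map (homOfLE (X.basicOpen_le (b x))).op (r.appLE (D (e x).down) (gl (σ (e x).down)) _ z)
      rw [← CommRingCat.comp_apply, ← CommRingCat.comp_apply, Scheme.Hom.map_appLE, Scheme.Hom.appLE_map]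
    refine ⟨ρ' a' * ↑(hu.unit⁻¹) ^ m, ?_⟩
    show ψ (ρ' a' * ↑(hu.unit⁻¹) ^ m) = c
    have h1 : ψ (ρ' a') = c * ψ (ρ' (b' x)) ^ m := by
      rw [hnat, hnat, hb' x, ha']
      exact hk.symm
    rw [map_mul, h1, map_pow, mul_assoc, ← mul_pow, ← map_mul, IsUnit.mul_val_inv, map_one, one_pow, mul_one]
  haveI : IsProper (r ≫ CohB1.ProjSpace.toSpec n k) := by rw [hr]; infer_instance
  haveI : IsSeparated (CohB1.ProjSpace.toSpec n k) := by
    unfold CohB1.ProjSpace.toSpec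
    infer_instance
  haveI : IsProper r := IsProper.of_comp r (CohB1.ProjSpace.toSpec n k)
  haveI := himm
  exact ⟨r, IsClosedImmersion.of_isPreimmersion r r.isClosedMap.isClosed_range, hr, ⟨τ⟩⟩

/-- Over a field, separation of an ample module whose powers are generated by products. -/
theorem vaat_id_of_gen (q : X ⟶ Spec (CommRingCat.of k)) [LocallyOfFiniteType q] [QuasiCompact q]
    (hLa : CohB1.IsAmple L)
    (hng : ∀ n : ℕ, 1 ≤ n → AddSubgroup.closure {t | ∃ (m : (CohB1.tensorPow L n).val.obj (op ⊤))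
      (s : L.val.obj (op ⊤)), t = SecTwist.tmul (CohB1.tensorPow L n) L ⊤ m s} = ⊤) (x : X) :
    VAat (ProjUP.toGlobal q) (id : Γ(L, (⊤ : X.Opens)) → Γ(L, (⊤ : X.Opens))) x := by
  have hL := hLa.1
  obtain ⟨N, hN, hva⟩ := VA11.exists_vamp_pow q hLa
  obtain ⟨n, rfl⟩ : ∃ n, N = n + 1 := ⟨N - 1, by omega⟩
  obtain ⟨E, φ, -, hva⟩ := exists_va_of_isRelVeryAmple hva
  have h := hva ⊤ (isAffineOpen_top _) x trivial
  obtain ⟨e, b, hb, hxb, -⟩ := id h
  have hxe : x ∈ gl (secs φ ⊤ e) := X.basicOpen_le b hxb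
  obtain ⟨i, hi⟩ : ∃ i : Γ(L, (⊤ : X.Opens)), x ∈ gl i := AmpleFib.exists_gl_of_pow hL hng n _ x hxe
  have h2 := AmpleFib.vaat_of_cf (ρ := (q.app ⊤).hom) (σ := (id : Γ(L, (⊤ : X.Opens)) → Γ(L, (⊤ : X.Opens)))) h i hi
    (Amp.pw i (n + 1)) (VA11.gl_pw hL i n) fun l =>
      AmpleFib.pow_coeff_mem (ρ := (q.app ⊤).hom) hL hng i n (secs φ ⊤ l)
  refine h2.mono fun e he => ⟨e, le_rfl, he, fun r => ?_, fun l => ?_⟩
  · rw [M1.ores_id]
    have : (q.app ⊤).hom r = ProjUP.toGlobal q ((Scheme.ΓSpecIso (CommRingCat.of k)).hom r) := by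
      show q.appTop r = q.appTop ((Scheme.ΓSpecIso (CommRingCat.of k)).inv ((Scheme.ΓSpecIso (CommRingCat.of k)).hom r))
      have e : (Scheme.ΓSpecIso (CommRingCat.of k)).inv ((Scheme.ΓSpecIso (CommRingCat.of k)).hom r) = r :=
        congrArg (fun φ => φ r) (congrArg (fun φ : Γ(Spec (CommRingCat.of k), ⊤) ⟶ _ => (φ.hom : _ → _)) (Scheme.ΓSpecIso (CommRingCat.of k)).hom_inv_id)
      rw [e]
    rw [this]
    exact base_mem_ratSub (σ := (id : Γ(L, (⊤ : X.Opens)) → Γ(L, (⊤ : X.Opens)))) _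
  · rw [M1.ores_id]
    exact cf_mem_ratSub (σ := (id : Γ(L, (⊤ : X.Opens)) → Γ(L, (⊤ : X.Opens)))) l

end Groth.Agent.CurveVA17
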