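import Groth.Agent.Lib.CurveVA17.RegSec

/-!
# Global generation from one regular section and `H¹(O) = 0`
-/

set_option autoImplicit false
set_option linter.style.haveILetI false
set_option backward.isDefEq.respectTransparency.types false

universe u

open CategoryTheory CategoryTheory.Limits AlgebraicGeometry TopologicalSpace Opposite

namespace Groth.Agent.CurveVA17

open Groth.Agent Groth.Agent.M1 Groth.Agent.M2 Groth.Agent.CurveCoh17

variable (k : Type u) [Field k] {X : Scheme.{u}} [X.Over (Spec (CommRingCat.of k))]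

include k in
/-- An invertible module with a section regular off finitely many points is generated once `H¹(O) = 0`. -/
theorem isGloballyGenerated_of_h1 {L : X.Modules} (hL : PicF.IsInvertible L) (σ : Γ(L, (⊤ : X.Opens)))
    [Mono (secHom σ)] {S : Finset X} (hS : SuppIn (cokernel (secHom σ)) S)
    (h1 : Subsingleton (Coh.HH X (Coh.structureModule X) (0 + 1))) :
    Curv2.IsGloballyGenerated L := by
  classical
  have hT := secSC_shortExact σ
  refine RA.isGloballyGenerated_of_span _ fun y => top_le_iff.1 fun a _ => ?_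
  let R := X.presheaf.stalk y
  set P := Submodule.span R (Set.range fun t : Γ(L, (⊤ : X.Opens)) =>
    (L.presheaf.germ ⊤ y trivial t : L.presheaf.stalk y)) with hP
  have hσ : ∀ b, stalkLin (secHom σ) y b ∈ P := fun b => by
    obtain ⟨c, rfl⟩ := (RH26.str y).surjective b
    have h : (L.presheaf.germ ⊤ y trivial ((secHom σ).app ⊤ (one ⊤)) : L.presheaf.stalk y) =
        stalkLin (secHom σ) y ((Coh.structureModule X).presheaf.germ ⊤ y trivial (one ⊤)) :=
      (M1.germ_naturality (secHom σ) ⊤ y trivial (one ⊤)).symm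
    rw [RH26.str_apply, map_smul, show stalkLin (secHom σ) y (Cyc26.oneStalk y) = L.presheaf.germ ⊤ y trivial σ by
      exact h.symm.trans (congrArg _ (secHom_app_one σ))]
    exact P.smul_mem c (Submodule.subset_span ⟨σ, rfl⟩)
  have hex : ∀ c, stalkLin (cokernel.π (secHom σ)) y c = 0 → ∃ b, stalkLin (secHom σ) y b = c := fun c hc =>
    (M1.exact_iff_stalk_eq_zero (secSC σ)).1 hT.exact y c hc
  have ht : ∃ t : Γ(L, (⊤ : X.Opens)),
      stalkLin (cokernel.π (secHom σ)) y (L.presheaf.germ ⊤ y trivial t) = stalkLin (cokernel.π (secHom σ)) y a := by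
    by_cases hyS : y ∈ S
    · obtain ⟨z₃, hz₃⟩ := (hS.h0Equiv k).surjective fun x : S =>
        if h : (x : X) = y then h.symm ▸ stalkLin (cokernel.π (secHom σ)) y a else 0
      obtain ⟨z₂, rfl⟩ := (exact_hmap_hdelta k hT 0 z₃).1 (Subsingleton.elim _ _)
      refine ⟨hh0 L z₂, ?_⟩
      have h2 := congrFun hz₃ ⟨y, hyS⟩
      rw [dif_pos rfl] at h2
      refine Eq.trans ?_ h2
      show (stalkAb y).map (cokernel.π (secHom σ)) (L.presheaf.germ ⊤ y trivial (hh0 L z₂)) =
        (cokernel (secHom σ)).presheaf.germ ⊤ y trivial (hh0 _ (hmap k (cokernel.π (secHom σ)) 0 z₂))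
      rw [germ_naturality, hh0_hmap]
    · exact ⟨0, (hS.zero y hyS _).trans (hS.zero y hyS _).symm⟩
  obtain ⟨t, ht⟩ := ht
  obtain ⟨b, hb⟩ := hex (a - L.presheaf.germ ⊤ y trivial t) (by rw [map_sub, ht, sub_self])
  have hd := add_mem (Submodule.subset_span (R := R) ⟨t, rfl⟩ : (L.presheaf.germ ⊤ y trivial t : L.presheaf.stalk y) ∈ P)
    (hb ▸ hσ b)
  rwa [add_sub_cancel] at hd

end Groth.Agent.CurveVA17
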