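import Groth.Agent.Lib.AmpleFib.GenProd
import Groth.Agent.Lib.CMReg18.OfInv
import Groth.Agent.Lib.CurveCoh17.Vanish
import Groth.Agent.Lib.VB17.Setup

/-!
# Very ampleness of powers from regularity of the structure sheaf
-/

set_option autoImplicit false
set_option linter.style.haveILetI false
set_option backward.isDefEq.respectTransparency false

universe u

open CategoryTheory CategoryTheory.Limits AlgebraicGeometry TopologicalSpace Opposite

namespace Groth.Agent.CurveVA17

open Groth.Agent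

variable {X : Scheme.{u}}

/-- Being sums of products passes along isomorphisms of the factors. -/
theorem prods_of_iso {A A' B B' : X.Modules} (a : A ≅ A') (b : B ≅ B')
    (h : ∀ y, y ∈ CMReg18.TwistData.prods A B) (y : Γ(CohB1.tensorMod A' B', (⊤ : X.Opens))) : y ∈ CMReg18.TwistData.prods A' B' := by
  rw [← show (M2.tensorIso a b).hom.app ⊤ ((M2.tensorIso a b).inv.app ⊤ y) = y from
    congrArg (fun f => f.app ⊤ y) (M2.tensorIso a b).inv_hom_id]
  have hz := h ((M2.tensorIso a b).inv.app ⊤ y)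
  generalize (M2.tensorIso a b).inv.app ⊤ y = z at hz
  induction hz using AddSubgroup.closure_induction with
  | mem z hz =>
    obtain ⟨⟨s, t⟩, rfl⟩ := hz
    show (M2.tensorMap a.hom b.hom).app ⊤ (M2.tsec A B s t) ∈ _
    rw [M2.tensorMap_tsec]
    exact CMReg18.TwistData.tsec_mem_prods _ _
  | zero => rw [map_zero]; exact zero_mem _
  | add z w _ _ hz hw => rw [map_add]; exact add_mem hz hw
  | neg z _ hz => rw [map_neg]; exact neg_mem hz

/-- Powers of a twist. -/
noncomputable def twistPowIso (D : CMReg18.TwistData X) (a : ℕ) :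
    ∀ n : ℕ, CohB1.tensorPow (D.O (a : ℤ)) n ≅ D.O ((n * a : ℕ) : ℤ)
  | 0 => eqToIso rfl ≪≫ D.zero.symm ≪≫ eqToIso (by simp)
  | n + 1 => M2.tensorIso (twistPowIso D a n) (Iso.refl _) ≪≫ D.add _ _ ≪≫ eqToIso (by push_cast; ring_nf)

variable (k : Type u) [Field k] [X.Over (Spec (CommRingCat.of k))]

/-- An immersion of a proper scheme into projective space over `Spec k`, in absolute form. -/
theorem exists_closedImmersion_of_pn [IsProper (X ↘ Spec (CommRingCat.of k))] {L : X.Modules}
    (h : RelAmple.IsRelVeryAmplePn (X ↘ Spec (CommRingCat.of k)) L) :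
    ∃ (n : ℕ) (i : X ⟶ CohB1.ProjSpace n k), IsClosedImmersion i ∧
      i ≫ CohB1.ProjSpace.toSpec n k = X ↘ Spec (CommRingCat.of k) ∧
      Nonempty ((Scheme.Modules.pullback i).obj (_root_.Twist.twistProjSpace n k 1) ≅ L) := by
  obtain ⟨n, i, hi, hif, ⟨e⟩⟩ := h
  haveI := hi
  let w := ProjSpace.overSpecIso n k
  let r : X ⟶ CohB1.ProjSpace n k := i ≫ w.inv
  have hbase : r ≫ CohB1.ProjSpace.toSpec n k = X ↘ Spec (CommRingCat.of k) := by
    rw [← ProjSpace.overSpecIso_hom_toBase n k]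
    simp only [r, w, Category.assoc, Iso.inv_hom_id_assoc]
    exact hif
  obtain ⟨σ'⟩ := AmpleImm18.nonempty_pullback_map_twist n k
  let fY := pullback.fst (CohB1.ProjSpace.toSpec n (ULift.{u} ℤ))
    (specULiftZIsTerminal.from (Spec (CommRingCat.of k)))
  have e0 : r ≫ ProjSpace.map n (ProjSpace.fromZ k) = i ≫ fY := by
    rw [← ProjSpace.overSpecIso_hom_fst]
    simp [r, w, fY]
  let τ : (Scheme.Modules.pullback r).obj (_root_.Twist.twistProjSpace n k 1) ≅ L :=
    (Scheme.Modules.pullback r).mapIso σ'.symm ≪≫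
      (Scheme.Modules.pullbackComp r (ProjSpace.map n (ProjSpace.fromZ k))).app _ ≪≫
      eqToIso (congrArg (fun g => (Scheme.Modules.pullback g).obj _) e0) ≪≫
      ((Scheme.Modules.pullbackComp i fY).app _).symm ≪≫ e.symm
  haveI : IsProper (r ≫ CohB1.ProjSpace.toSpec n k) := by rw [hbase]; infer_instance
  haveI : IsSeparated (CohB1.ProjSpace.toSpec n k) := by
    unfold CohB1.ProjSpace.toSpec
    infer_instance
  haveI : IsProper r := IsProper.of_comp r (CohB1.ProjSpace.toSpec n k)
  exact ⟨n, r, IsClosedImmersion.of_isPreimmersion r r.isClosedMap.isClosed_range, hbase, ⟨τ⟩⟩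

include k in
/-- If the structure sheaf is `m`-regular for `D`, then `O(m)` is normally generated. -/
theorem gen_of_isReg (D : CMReg18.TwistData X) (m : ℕ) (hreg : D.IsReg (Coh.structureModule X) m)
    {M : X.Modules} (e : M ≅ D.O (m : ℤ)) (n : ℕ) (hn : 1 ≤ n) :
    AddSubgroup.closure {t | ∃ (a : (CohB1.tensorPow M n).val.obj (op ⊤)) (s : M.val.obj (op ⊤)),
      t = SecTwist.tmul (CohB1.tensorPow M n) M ⊤ a s} = ⊤ := by
  refine eq_top_iff.2 fun y _ => ?_
  have hle : ((m : ℕ) : ℤ) ≤ ((n * m : ℕ) : ℤ) := by exact_mod_cast Nat.le_mul_of_pos_left m hn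
  have h := prods_of_iso (M2.tensorLUnit _ ≪≫ (twistPowIso D m n).symm ≪≫ (M2.tensorPowIso e n).symm) e.symm
    (fun y => (hreg.of_le k hle).mem_prods k m y) y
  refine (AddSubgroup.closure_le _).2 ?_ h
  rintro _ ⟨⟨a, s⟩, rfl⟩
  exact AddSubgroup.subset_closure ⟨a, s, (Amp.tmul_eq_tsec _ _).symm⟩

/-- A power of a globally generated invertible module on a curve is very ample once `H¹` vanishes one step below. -/
theorem exists_closedImmersion_of_gg [IsProper (X ↘ Spec (CommRingCat.of k))] (hdim : topologicalKrullDim X ≤ 1)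
    {L : X.Modules} (hL : PicF.IsInvertible L) (hgg : Curv2.IsGloballyGenerated L) (m : ℕ)
    (h1 : Subsingleton (Coh.HH X (CohB1.tensorPow L m) 1)) {M : X.Modules}
    (e : M ≅ CohB1.tensorPow L (m + 1)) (hM : CohB1.IsAmple M) :
    ∃ (n : ℕ) (i : X ⟶ CohB1.ProjSpace n k), IsClosedImmersion i ∧
      i ≫ CohB1.ProjSpace.toSpec n k = X ↘ Spec (CommRingCat.of k) ∧
      Nonempty ((Scheme.Modules.pullback i).obj (_root_.Twist.twistProjSpace n k 1) ≅ M) := by
  haveI := VB17.isNoetherian_of_over (k := k) (X := X)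
  haveI := VB17.isSeparated_of_over (k := k) (X := X)
  obtain ⟨L', hL', ⟨eL⟩⟩ := M2.exists_inverse hL
  obtain ⟨s, hs⟩ := CMReg18.exists_basis_gen k hL hgg
  let D := CMReg18.ofInv eL hL hL' s hs
  have hreg : D.IsReg (Coh.structureModule X) ((m + 1 : ℕ) : ℤ) := by
    intro i hi
    rcases Nat.lt_or_ge i 2 with h | h
    · obtain rfl : i = 1 := by omega
      exact CMReg18.van_iso k (M2.tensorLUnit _ ≪≫
        eqToIso (congrArg D.O (show ((m + 1 : ℕ) : ℤ) - ((1 : ℕ) : ℤ) = (m : ℤ) by push_cast; ring)) ≪≫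
        CMReg18.intPowNat m).symm h1
    · obtain ⟨j, rfl⟩ : ∃ j, i = j + 2 := ⟨i - 2, by omega⟩
      refine CurveCoh17.subsingleton_HH_of_dim hdim _ ?_ j
      exact M1.isFP_isQCoh (M1.isFP_of_isFinLocFree (M2.isFinLocFree_of_ofRank
        ((M2.isInvertible_iff_isFinLocFreeOfRank_one _).1
          (M2.isInvertible_tensor (PicLoc.isInvertible_structureModule X) (D.inv _)))))
  refine exists_closedImmersion_of_pn k (AmpleFib.isRelVeryAmplePn_of_gen (X ↘ Spec (CommRingCat.of k)) hM ?_)
  exact fun n hn => gen_of_isReg k D (m + 1) hreg (e ≪≫ (CMReg18.intPowNat (m + 1)).symm) n hn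

end Groth.Agent.CurveVA17
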