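import Groth.Agent.Lib.CurveVA17.Normal
import Groth.Agent.Lib.CurveCoh17.Section
import Groth.Agent.Lib.CurveCoh17.TensorExact
import Groth.Agent.Lib.RefHull26.Dual

/-!
# Invertible modules with a regular section and no `H¹` on a curve
-/

set_option autoImplicit false
set_option linter.style.haveILetI false
set_option backward.isDefEq.respectTransparency.types false

universe u

open CategoryTheory CategoryTheory.Limits AlgebraicGeometry TopologicalSpace Opposite TensorProduct

namespace Groth.Agent.CurveVA17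

open Groth.Agent Groth.Agent.M1 Groth.Agent.M2 Groth.Agent.CurveCoh17

variable (k : Type u) [Field k] {X : Scheme.{u}} [X.Over (Spec (CommRingCat.of k))]

omit [Field k] [X.Over (Spec (CommRingCat.of k))] in
theorem surjective_stalkLin_of_maximal [IsLocallyNoetherian X] {L : X.Modules} (hL : PicF.IsInvertible L)
    (s : Coh.structureModule X ⟶ L) [Mono s] {g : X} (hg : ∀ y, y ⤳ g → y = g) :
    Function.Surjective (stalkLin s g) := by
  obtain ⟨e⟩ := nonempty_stalk_equiv ((isInvertible_iff_isFinLocFreeOfRank_one L).1 hL) g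
  let e' := e.trans (LinearEquiv.funUnique (Fin 1) (X.presheaf.stalk g) (X.presheaf.stalk g))
  let h : X.presheaf.stalk g →ₗ[X.presheaf.stalk g] X.presheaf.stalk g :=
    e'.toLinearMap ∘ₗ stalkLin s g ∘ₗ (RH26.str g).toLinearMap
  have hinj : Function.Injective h := e'.injective.comp
    ((show Function.Injective (stalkLin s g) from (M1.mono_iff_stalk s).1 inferInstance g).comp (RH26.str g).injective)
  have hmax : IsMax g := fun y hy => (hg y hy).le
  haveI : Ring.KrullDimLE 0 (X.presheaf.stalk g) := Ring.krullDimLE_iff.mpr (by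
    rw [ringKrullDim_stalk_eq_coheight, Order.coheight_eq_zero.2 hmax]; rfl)
  haveI : IsArtinianRing (X.presheaf.stalk g) := isArtinianRing_iff_isNoetherianRing_krullDimLE_zero.2 ⟨inferInstance, inferInstance⟩
  have hc : ∀ c, h c = c * h 1 := fun c => by
    conv_lhs => rw [← mul_one c, ← smul_eq_mul, map_smul]
    rfl
  have hnz : h 1 ∈ nonZeroDivisors (X.presheaf.stalk g) :=
    mem_nonZeroDivisors_iff_right.2 fun z hz => hinj (((hc z).trans hz).trans (map_zero h).symm)
  have hu : IsUnit (h 1) := IsArtinianRing.isUnit_of_mem_nonZeroDivisors hnz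
  intro b
  refine ⟨RH26.str g (e' b * ↑hu.unit⁻¹), e'.injective ?_⟩
  show h (e' b * ↑hu.unit⁻¹) = e' b
  rw [hc, mul_assoc, IsUnit.val_inv_mul, mul_one]

/-- The twisted sequence of a regular section, with its cokernel at finitely many points. -/
theorem exists_suppIn_twist [IsNoetherian X] (hdim : topologicalKrullDim X ≤ 1) {L : X.Modules}
    (hL : PicF.IsInvertible L) (s : Coh.structureModule X ⟶ L) [Mono s] {N : X.Modules} (hN : PicF.IsInvertible N) :
    ((ShortComplex.mk s (cokernel.π s) (cokernel.condition _)).map (tensorR N)).ShortExact ∧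
      ∃ S : Finset X, SuppIn ((ShortComplex.mk s (cokernel.π s) (cokernel.condition _)).map (tensorR N)).X₃ S := by
  have h1 := (isInvertible_iff_isFinLocFreeOfRank_one L).1 hL
  obtain ⟨S, hS⟩ := exists_suppIn_of_maximal hdim
    (M1.isCoh_cokernel (CurveCoh17.isCoh_structureModule (X := X)).1 (isCoh_of_ofRank h1) s)
    fun g hg => eq_zero_stalk_cokernel s g (surjective_stalkLin_of_maximal hL s hg)
  refine ⟨shortExact_tensorR (S := ShortComplex.mk s (cokernel.π s) (cokernel.condition _))
    { exact := ShortComplex.exact_of_g_is_cokernel _ (cokernelIsCokernel _) } N (fun x =>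
      Module.Flat.of_linearEquiv (nonempty_stalk_equiv ((isInvertible_iff_isFinLocFreeOfRank_one N).1 hN) x).some),
    S, hS.tensor N⟩

include k in
/-- Vanishing of `H¹` propagates along a regular section. -/
theorem h1_tensor [IsNoetherian X] (hdim : topologicalKrullDim X ≤ 1) {L : X.Modules}
    (hL : PicF.IsInvertible L) (s : Coh.structureModule X ⟶ L) [Mono s] {N : X.Modules} (hN : PicF.IsInvertible N)
    (h : Subsingleton (Coh.HH X N 1)) : Subsingleton (Coh.HH X (CohB1.tensorMod L N) 1) := by
  obtain ⟨hT, S, hS⟩ := exists_suppIn_twist hdim hL s hN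
  exact CMReg18.van₂ k hT (CMReg18.van_iso k (tensorLUnit N).symm h) (hS.subsingleton_HH 0)

include k in
/-- The square of an invertible module with a regular section and no `H¹` is globally generated. -/
theorem isGloballyGenerated_sq [IsNoetherian X] (hdim : topologicalKrullDim X ≤ 1) {L : X.Modules}
    (hL : PicF.IsInvertible L) (s : Coh.structureModule X ⟶ L) [Mono s] (h1 : Subsingleton (Coh.HH X L 1)) :
    Curv2.IsGloballyGenerated (CohB1.tensorMod L L) := by
  classical
  obtain ⟨hT, S, hS⟩ := exists_suppIn_twist hdim hL s hL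
  refine RA.isGloballyGenerated_of_span _ fun y => ?_
  let R := X.presheaf.stalk y
  obtain ⟨e⟩ := nonempty_stalk_equiv ((isInvertible_iff_isFinLocFreeOfRank_one L).1 hL) y
  let σ : Γ(L, (⊤ : X.Opens)) := s.app ⊤ (one ⊤)
  have hs : ∀ c : R, stalkLin s y (RH26.str y c) = c • L.presheaf.germ ⊤ y trivial σ := fun c => by
    rw [RH26.str_apply, map_smul]
    exact congrArg (c • ·) (M1.germ_naturality s ⊤ y trivial (one ⊤))
  have hl : ∀ l : L.presheaf.stalk y, l = e l 0 • e.symm 1 := fun l => by
    apply e.injective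
    rw [map_smul, LinearEquiv.apply_symm_apply]
    funext i
    rw [Fin.fin_one_eq_zero i, Pi.smul_apply, Pi.one_apply, smul_eq_mul, mul_one]
  let r := e (L.presheaf.germ ⊤ y trivial σ) 0
  set P := Submodule.span R (Set.range fun t : Γ(CohB1.tensorMod L L, (⊤ : X.Opens)) =>
    ((CohB1.tensorMod L L).presheaf.germ ⊤ y trivial t : (CohB1.tensorMod L L).presheaf.stalk y)) with hP
  by_cases hr : IsUnit r
  · refine top_le_iff.1 fun a _ => ?_
    have hgen : ∀ l : L.presheaf.stalk y, ∃ c : R, l = c • L.presheaf.germ ⊤ y trivial σ := fun l =>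
      ⟨e l 0 * ↑hr.unit⁻¹, by
        rw [hl (L.presheaf.germ ⊤ y trivial σ), ← mul_smul, mul_assoc, IsUnit.val_inv_mul, mul_one]
        exact hl l⟩
    have hmem : ∀ z : (L.presheaf.stalk y : Type u) ⊗[R] (L.presheaf.stalk y : Type u),
        (stalkEquiv L L y).symm z ∈ P := fun z => by
      induction z using TensorProduct.induction_on with
      | zero => rw [map_zero]; exact zero_mem _
      | add z w hz hw => rw [map_add]; exact add_mem hz hw
      | tmul p q =>
        obtain ⟨c, rfl⟩ := hgen p
        obtain ⟨d, rfl⟩ := hgen q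
        have hcd : (c • L.presheaf.germ ⊤ y trivial σ : L.presheaf.stalk y) ⊗ₜ[R] (d • L.presheaf.germ ⊤ y trivial σ : L.presheaf.stalk y) =
            c • d • ((L.presheaf.germ ⊤ y trivial σ : L.presheaf.stalk y) ⊗ₜ[R] (L.presheaf.germ ⊤ y trivial σ : L.presheaf.stalk y)) := by
          rw [TensorProduct.tmul_smul, ← TensorProduct.smul_tmul', smul_comm]
        rw [hcd, map_smul, map_smul]
        refine P.smul_mem _ (P.smul_mem _ (Submodule.subset_span ⟨tsec L L σ σ, ?_⟩))
        exact (LinearEquiv.eq_symm_apply _).2 (stalkEquiv_tsec L L (U := (⊤ : X.Opens)) y trivial σ σ)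
    rw [← (stalkEquiv L L y).symm_apply_apply a]
    exact hmem _
  · have hm : r ∈ IsLocalRing.maximalIdeal R := (IsLocalRing.mem_maximalIdeal _).2 hr
    let T := (ShortComplex.mk s (cokernel.π s) (cokernel.condition _)).map (tensorR L)
    let f : CohB1.tensorMod (Coh.structureModule X) L ⟶ CohB1.tensorMod L L := tensorMap s (𝟙 L)
    let g : CohB1.tensorMod L L ⟶ CohB1.tensorMod (cokernel s) L := tensorMap (cokernel.π s) (𝟙 L)
    have hf : ∀ b : (CohB1.tensorMod (Coh.structureModule X) L).presheaf.stalk y, stalkLin f y b ∈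
        (IsLocalRing.maximalIdeal R • ⊤ : Submodule R ((CohB1.tensorMod L L).presheaf.stalk y)) := fun b => by
      have hb : ∀ z : ((Coh.structureModule X).presheaf.stalk y : Type u) ⊗[R] (L.presheaf.stalk y : Type u),
          ∃ w, LinearMap.rTensor (L.presheaf.stalk y) (stalkLin s y) z = r • w := fun z => by
        induction z using TensorProduct.induction_on with
        | zero => exact ⟨0, by rw [map_zero, smul_zero]⟩
        | add z w hz hw =>
          obtain ⟨a, ha⟩ := hz
          obtain ⟨c, hc⟩ := hw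
          exact ⟨a + c, by rw [map_add, ha, hc, smul_add]⟩
        | tmul p q =>
          obtain ⟨c, rfl⟩ := (RH26.str y).surjective p
          refine ⟨c • (e.symm 1 ⊗ₜ[R] q), ?_⟩
          rw [LinearMap.rTensor_tmul, hs, hl (L.presheaf.germ ⊤ y trivial σ), smul_comm c,
            ← TensorProduct.smul_tmul', ← TensorProduct.smul_tmul']
      obtain ⟨w, hw⟩ := hb (stalkEquiv (Coh.structureModule X) L y b)
      have h2 : stalkLin f y b = r • (stalkEquiv L L y).symm w := by
        apply (stalkEquiv L L y).injective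
        rw [map_smul, LinearEquiv.apply_symm_apply, ← hw]
        exact stalkEquiv_natural s L y b
      rw [h2]
      exact Submodule.smul_mem_smul hm trivial
    haveI : Module.Finite R ((CohB1.tensorMod L L).presheaf.stalk y) :=
      M1.finite_stalk (isCoh_of_ofRank ((isInvertible_iff_isFinLocFreeOfRank_one _).1 (isInvertible_tensor hL hL))).1
        (isCoh_of_ofRank ((isInvertible_iff_isFinLocFreeOfRank_one _).1 (isInvertible_tensor hL hL))).2 y
    refine top_le_iff.1 (Submodule.le_of_le_smul_of_le_jacobson_bot Module.Finite.fg_top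
      (IsLocalRing.maximalIdeal_le_jacobson _) fun a _ => ?_)
    haveI : Subsingleton (Coh.HH X T.X₁ (0 + 1)) := CMReg18.van_iso k (tensorLUnit L).symm h1
    haveI := hT.mono_f
    have hex : ∀ c, stalkLin g y c = 0 → ∃ b, stalkLin f y b = c := fun c hc =>
      (M1.exact_iff_stalk_eq_zero T).1 hT.exact y c hc
    have ht : ∃ t : Γ(CohB1.tensorMod L L, (⊤ : X.Opens)),
        stalkLin g y ((CohB1.tensorMod L L).presheaf.germ ⊤ y trivial t) = stalkLin g y a := by
      by_cases hyS : y ∈ S
      · obtain ⟨z₃, hz₃⟩ := (hS.h0Equiv k).surjective fun x : S =>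
          if h : (x : X) = y then h.symm ▸ stalkLin g y a else 0
        obtain ⟨z₂, rfl⟩ := (exact_hmap_hdelta k hT 0 z₃).1 (Subsingleton.elim _ _)
        refine ⟨hh0 T.X₂ z₂, ?_⟩
        have h2 := congrFun hz₃ ⟨y, hyS⟩
        rw [dif_pos rfl] at h2
        refine Eq.trans ?_ h2
        show (stalkAb y).map T.g (T.X₂.presheaf.germ ⊤ y trivial (hh0 T.X₂ z₂)) =
          T.X₃.presheaf.germ ⊤ y trivial (hh0 T.X₃ (hmap k T.g 0 z₂))
        rw [germ_naturality, hh0_hmap]
      · exact ⟨0, (hS.zero y hyS _).trans (hS.zero y hyS _).symm⟩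
    obtain ⟨t, ht⟩ := ht
    obtain ⟨b, hb⟩ := hex (a - (CohB1.tensorMod L L).presheaf.germ ⊤ y trivial t) (by rw [map_sub, ht, sub_self])
    have hPt : ((CohB1.tensorMod L L).presheaf.germ ⊤ y trivial t : (CohB1.tensorMod L L).presheaf.stalk y) ∈ P :=
      Submodule.subset_span ⟨t, rfl⟩
    have hd := Submodule.add_mem_sup hPt (hb ▸ hf b)
    rwa [add_sub_cancel] at hd

end Groth.Agent.CurveVA17
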